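import Groth.Prelude.Def_Red
import Groth.Prelude.Def_Frob
import Groth.Agent.GrpScheme.SubgroupObj
import Mathlib.AlgebraicGeometry.Morphisms.ClosedImmersion
import Mathlib.AlgebraicGeometry.PullbackCarrier
import Mathlib.CategoryTheory.Monoidal.Cartesian.Over
import Mathlib.CategoryTheory.Monoidal.Cartesian.Grp
import Mathlib.FieldTheory.PurelyInseparable.Exponent

/-!
# The Frobenius preimage of a subgroup of a purely inseparable base change
-/

set_option autoImplicit false
set_option linter.style.haveILetI false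
set_option backward.isDefEq.respectTransparency false

universe u

open CategoryTheory MonoidalCategory CartesianMonoidalCategory MonObj GrpObj AlgebraicGeometry CategoryTheory.Limits
open CategoryTheory.Functor

noncomputable section

namespace Groth.Agent.GrpdLib.FrobPre

variable {S S' : Scheme.{u}}

/-- A natural endomorphism of the schemes over `S` which is the identity on points. -/
structure Endo (S : Scheme.{u}) where
  app : ∀ {X : Scheme.{u}}, (X ⟶ S) → (X ⟶ X)
  nat : ∀ {X Y : Scheme.{u}} (g : X ⟶ Y) (f : Y ⟶ S), app (g ≫ f) ≫ g = g ≫ app f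
  base : ∀ {X : Scheme.{u}} (f : X ⟶ S) (x : X), app f x = x

variable (Φ : Endo S) (f : S' ⟶ S) (s : S ⟶ S')
  (hs : s ≫ f = Φ.app (𝟙 S)) (hs' : f ≫ s = Φ.app f)

lemma Endo.hom_comp {X : Scheme.{u}} (g : X ⟶ S) : Φ.app g ≫ g = g ≫ Φ.app (𝟙 S) := by
  simpa using Φ.nat g (𝟙 S)

variable {f s}

/-- The projection to the base change. -/
def toBC (X : Over S) : X.left ⟶ pullback X.hom f :=
  pullback.lift (Φ.app X.hom) (X.hom ≫ s) (by rw [Φ.hom_comp, Category.assoc, hs])

/-- The relative Frobenius. -/
def rel (X : Over S) : X ⟶ (Over.pullback s).obj ((Over.pullback f).obj X) :=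
  Over.homMk (pullback.lift (toBC Φ hs X) X.hom (pullback.lift_snd _ _ _)) (pullback.lift_snd _ _ _)

lemma rel_naturality {X Y : Over S} (a : X ⟶ Y) :
    a ≫ rel Φ hs Y = rel Φ hs X ≫ (Over.pullback s).map ((Over.pullback f).map a) := by
  have h := Φ.nat a.left Y.hom
  rw [Over.w a] at h
  apply Over.OverMorphism.ext
  simp only [Over.comp_left, rel, toBC, Over.homMk_left, Over.pullback_map_left]
  apply pullback.hom_ext
  · apply pullback.hom_ext <;> simp [h]
  · simp

theorem isMonHom_rel (G : Over S) [GrpObj G] :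
    IsMonHom (N := (Over.pullback s).obj (Red.bc f G)) (rel Φ hs G) where
  one_hom := by
    rw [rel_naturality Φ hs]
    simp only [Functor.obj.η_def, Functor.map_comp, Category.assoc]
    rw [← Category.assoc]
    refine congrArg (· ≫ _) ?_
    exact ((isTerminalTensorUnit.isTerminalObj (Over.pullback f)).isTerminalObj (Over.pullback s)).hom_ext _ _
  mul_hom := by
    rw [rel_naturality Φ hs]
    simp only [Functor.obj.μ_def, Functor.map_comp, Category.assoc]
    have e : rel Φ hs (G ⊗ G) = (rel Φ hs G ⊗ₘ rel Φ hs G) ≫ LaxMonoidal.μ (Over.pullback s) _ _ ≫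
        (Over.pullback s).map (LaxMonoidal.μ (Over.pullback f) G G) := by
      conv_lhs =>
        rw [← Category.comp_id (rel Φ hs (G ⊗ G)), ← CategoryTheory.Functor.map_id (Over.pullback s), ← CategoryTheory.Functor.map_id (Over.pullback f),
          ← lift_fst_snd, ← Functor.Monoidal.lift_μ, Functor.map_comp, ← Functor.Monoidal.lift_μ]
      rw [← Category.assoc, ← Category.assoc, comp_lift, ← rel_naturality Φ hs, ← rel_naturality Φ hs]
      have hh : lift (fst G G ≫ rel Φ hs G) (snd G G ≫ rel Φ hs G) = rel Φ hs G ⊗ₘ rel Φ hs G := by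
        ext <;> simp
      rw [hh, Category.assoc]
    rw [e]
    simp only [Category.assoc]

include hs hs' in
/-- A closed subgroup of the base change lies in the base change of a closed subgroup with the same points. -/
theorem exists_preimage (G : Over S) [GrpObj G] (H' : Over S') [GrpObj H'] (h' : H' ⟶ Red.bc f G) [IsMonHom h']
    [IsClosedImmersion h'.left] :
    ∃ (H : Over S) (_ : GrpObj H) (h : H ⟶ G), IsMonHom h ∧ IsClosedImmersion h.left ∧
      ∃ g : H' ⟶ Red.bc f H, g ≫ (Over.pullback f).map h = h' ∧ Surjective g.left := by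
  haveI := isMonHom_rel Φ hs G
  let F : G ⟶ (Over.pullback s).obj (Red.bc f G) := rel Φ hs G
  let h'' : (Over.pullback s).obj H' ⟶ (Over.pullback s).obj (Red.bc f G) := (Over.pullback s).map h'
  haveI hcl : ∀ {A B : Scheme.{u}} (c : B ⟶ A) {X Y : Over A} (a : X ⟶ Y) [IsClosedImmersion a.left],
      IsClosedImmersion ((Over.pullback c).map a).left := fun {A B} c {X Y} a _ => by
    have hsq : IsPullback (pullback.fst X.hom c) ((Over.pullback c).map a).left a.left (pullback.fst Y.hom c) := by
      refine IsPullback.of_bot ?_ (by simp) (IsPullback.of_hasPullback Y.hom c).flip.flip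
      simpa using IsPullback.of_hasPullback X.hom c
    exact MorphismProperty.of_isPullback hsq ‹_›
  haveI : IsClosedImmersion h''.left := hcl s h'
  haveI : Mono h'' := Over.mono_of_mono_left h''
  let H := pullback F h''
  let h : H ⟶ G := pullback.fst F h''
  haveI : Mono h := inferInstanceAs (Mono (pullback.fst F h''))
  haveI hh : IsClosedImmersion h.left :=
    MorphismProperty.of_isPullback ((IsPullback.of_hasPullback F h'').map (Over.forget S)).flip ‹_›
  have hlift : ∀ {T : Over S} (x : T ⟶ G) (y : T ⟶ (Over.pullback s).obj H'), x ≫ F = y ≫ h'' →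
      ∃ z : T ⟶ H, z ≫ h = x := fun x y e => ⟨pullback.lift x y e, pullback.lift_fst _ _ _⟩
  have hcond : h ≫ F = pullback.snd F h'' ≫ h'' := pullback.condition
  obtain ⟨g₀, hg₀⟩ := GrpScheme.SubgroupObj.exists_grpObj h
    (hlift _ ((pullback.snd F h'' ⊗ₘ pullback.snd F h'') ≫ μ) (by
      simp only [Category.assoc, IsMonHom.mul_hom, tensorHom_comp_tensorHom_assoc, hcond]))
    (hlift _ η (by simp only [IsMonHom.one_hom]))
    (hlift _ (pullback.snd F h'' ≫ ι) (by
      rw [Category.assoc, GrpObj.inv_hom, reassoc_of% hcond, Category.assoc, GrpObj.inv_hom]))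
  refine ⟨H, g₀, h, hg₀, hh, ?_⟩
  -- the adjoint of the inclusion
  let P : Over S := Over.mk (H'.hom ≫ f)
  let u : P ⟶ G := Over.homMk (h'.left ≫ pullback.fst G.hom f) (by
    show (h'.left ≫ pullback.fst G.hom f) ≫ G.hom = H'.hom ≫ f
    rw [Category.assoc, pullback.condition, ← Over.w h', Category.assoc]; rfl)
  have hΦ : Φ.app (H'.hom ≫ f) ≫ H'.hom = (H'.hom ≫ f) ≫ s := by rw [Φ.nat, Category.assoc, hs']
  let v : P ⟶ (Over.pullback s).obj H' :=
    Over.homMk (pullback.lift (Φ.app (H'.hom ≫ f)) (H'.hom ≫ f) hΦ) (pullback.lift_snd _ _ _)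
  have hw : h'.left ≫ pullback.snd G.hom f = H'.hom := Over.w h'
  have huv : u ≫ F = v ≫ h'' := by
    apply Over.OverMorphism.ext
    simp only [Over.comp_left, u, v, F, h'', rel, toBC, Over.homMk_left, Over.pullback_map_left]
    have hu := Over.w u
    simp only [u, Over.homMk_left, Over.mk_hom, P] at hu
    apply pullback.hom_ext
    · apply pullback.hom_ext
      · have e1 := Φ.nat (h'.left ≫ pullback.fst G.hom f) G.hom
        rw [hu] at e1
        simp [e1]
      · simp only [Category.assoc, pullback.lift_fst, pullback.lift_snd, pullback.lift_fst_assoc,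
          pullback.lift_snd_assoc]
        rw [← Category.assoc, ← Category.assoc, hu, hw, hΦ]
    · simp [reassoc_of% hw, ← hu]
  let w : P ⟶ H := pullback.lift u v huv
  have hwu : w ≫ h = u := pullback.lift_fst _ _ _
  let g : H' ⟶ Red.bc f H := Over.homMk (pullback.lift w.left H'.hom (Over.w w)) (pullback.lift_snd _ _ _)
  have hg : g ≫ (Over.pullback f).map h = h' := by
    apply Over.OverMorphism.ext
    simp only [Over.comp_left, g, Over.homMk_left, Over.pullback_map_left]
    apply pullback.hom_ext
    · simpa [u] using congrArg CommaMorphism.left hwu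
    · simp [hw]
  refine ⟨g, hg, ⟨fun z => ?_⟩⟩
  haveI : IsClosedImmersion ((Over.pullback f).map h).left := hcl f h
  let m : pullback H.hom f ⟶ pullback G.hom f := ((Over.pullback f).map h).left
  have hm : m ≫ pullback.fst G.hom f = pullback.fst H.hom f ≫ h.left := by simp [m]
  have hc : pullback.fst G.hom f ≫ toBC Φ hs G = Φ.app (pullback.fst G.hom f ≫ G.hom) := by
    have e1 := Φ.nat (pullback.fst G.hom f) G.hom
    have e2 := Φ.nat (pullback.snd G.hom f) f
    rw [pullback.condition] at e1 ⊢
    apply pullback.hom_ext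
    · simp [toBC, e1]
    · simp [toBC, e2, pullback.condition_assoc, hs']
  have e3 : m ≫ pullback.fst G.hom f ≫ toBC Φ hs G =
      (pullback.fst H.hom f ≫ (pullback.snd F h'').left ≫ pullback.fst H'.hom s) ≫ h'.left := by
    have e4 := congrArg (fun q => q.left ≫ pullback.fst _ s) hcond
    simp only [Over.comp_left, F, h'', rel, Over.homMk_left, Over.pullback_map_left, Category.assoc,
      pullback.lift_fst] at e4
    rw [reassoc_of% hm, e4]
    simp only [Category.assoc]
    rfl
  refine ⟨(pullback.fst H.hom f ≫ (pullback.snd F h'').left ≫ pullback.fst H'.hom s) z, ?_⟩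
  apply m.injective
  have e5 := congrArg (fun q : pullback H.hom f ⟶ pullback G.hom f => q z) e3
  simp only [hc, Scheme.Hom.comp_apply, Φ.base] at e5
  rw [e5, ← Scheme.Hom.comp_apply]
  exact congrArg (fun q : H'.left ⟶ pullback G.hom f => q _) (congrArg CommaMorphism.left hg)

/-! ### Iterates of the absolute Frobenius -/

lemma appTop_iterate {p : ℕ} [Fact p.Prime] (X : Scheme.{u}) [FrobSch.IsCharP X p] (n : ℕ) :
    ∀ (φ : X ⟶ X), φ = ((fun a => a ≫ FrobSch.frob X p)^[n]) (𝟙 X) → ∀ a : Γ(X, ⊤), φ.appTop a = a ^ p ^ n := by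
  induction n with
  | zero => intro φ hφ a; simp [hφ]
  | succ n ih =>
    intro φ hφ a
    rw [hφ, Function.iterate_succ_apply']
    rw [Scheme.Hom.comp_appTop, CommRingCat.comp_apply, FrobSch.frob_appTop, map_pow, ih _ rfl, ← pow_mul, pow_succ]

/-- The iterated absolute Frobenius as a natural endomorphism. -/
def frobEndo (p : ℕ) [Fact p.Prime] (S : Scheme.{u}) [FrobSch.IsCharP S p] (n : ℕ) : Endo S where
  app {X} f := haveI := FrobSch.IsCharP.of_hom f p; ((fun a => a ≫ FrobSch.frob X p)^[n]) (𝟙 X)
  nat {X Y} g f := by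
    haveI := FrobSch.IsCharP.of_hom f p
    haveI := FrobSch.IsCharP.of_hom (g ≫ f) p
    induction n with
    | zero => simp
    | succ n ih =>
      simp only [Function.iterate_succ_apply', Category.assoc, FrobSch.frob_comp]
      rw [reassoc_of% ih]
  base {X} f x := by
    haveI := FrobSch.IsCharP.of_hom f p
    induction n with
    | zero => simp
    | succ n ih => simp only [Function.iterate_succ_apply', Scheme.Hom.comp_apply, ih, FrobSch.frob_apply]

/-- The trivial natural endomorphism. -/
def idEndo (S : Scheme.{u}) : Endo S where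
  app {X} _ := 𝟙 X
  nat _ _ := by simp
  base _ _ := rfl

/-- A natural endomorphism raising global functions to the `q`-th power, `q` a power of the exponential characteristic. -/
theorem exists_endo (k : Type u) [Field k] (p : ℕ) [ExpChar k p] (n : ℕ) :
    ∃ Φ : Endo (Spec (CommRingCat.of k)), ∀ {X : Scheme.{u}} (f : X ⟶ Spec (CommRingCat.of k)) (a : Γ(X, ⊤)),
      (Φ.app f).appTop a = a ^ p ^ n := by
  rcases ‹ExpChar k p› with _ | ⟨hp⟩
  · exact ⟨idEndo _, fun f a => by simp [idEndo]⟩
  · haveI : Fact p.Prime := ⟨hp⟩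
    exact ⟨frobEndo p _ n, fun {X} f a => haveI := FrobSch.IsCharP.of_hom f p; appTop_iterate X n _ rfl a⟩

/-- Two maps into an affine scheme `Spec R` from `Spec A`. -/
lemma eq_of_forall {A : CommRingCat.{u}} (φ : A ⟶ A) (q : ℕ) (hφ : ∀ a, φ a = a ^ q) (ψ : Spec A ⟶ Spec A)
    (hψ : ∀ a : Γ(Spec A, ⊤), ψ.appTop a = a ^ q) : Spec.map φ = ψ := by
  refine ext_of_isAffine ?_
  rw [← cancel_mono (Scheme.ΓSpecIso A).hom, Scheme.ΓSpecIso_naturality]
  refine CommRingCat.hom_ext (RingHom.ext fun a => ?_)
  simp [hφ, hψ, map_pow]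

end Groth.Agent.GrpdLib.FrobPre
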